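import Groth.Prelude.Def_Neron
import Groth.Agent.NeronLib.Dedekind
import Groth.Agent.CAlgMisc2.KrullAkizuki
import Mathlib.RingTheory.Localization.BaseChange
import Mathlib.AlgebraicGeometry.AlgClosed.Basic

/-!
# Points of proper schemes over Dedekind domains

`exists_point_extend`: rational points of the generic fibre extend; `exists_quasiSection`: a surjective proper scheme has a
point over the normalisation in a finite extension of the fraction field.
-/

set_option autoImplicit false
set_option linter.style.haveILetI false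

universe u

open CategoryTheory Limits AlgebraicGeometry TopologicalSpace

namespace Groth.Agent.TorsorDed

variable {R : Type u} [CommRing R] [IsDedekindDomain R]

/-- A rational point of the generic fibre of a proper scheme over a Dedekind domain extends to a section. -/
theorem exists_point_extend {X : Scheme.{u}} (q : X ⟶ Spec (CommRingCat.of R)) [IsProper q]
    (x : Spec (CommRingCat.of (FractionRing R)) ⟶ X) (hx : x ≫ q = Neron.genPt R) :
    ∃ s : Spec (CommRingCat.of R) ⟶ X, s ≫ q = 𝟙 _ ∧ Neron.genPt R ≫ s = x := by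
  let S := Spec (CommRingCat.of R)
  obtain ⟨U, hU, f, p', hp', hf, hpf⟩ :=
    NeronLib.exists_spread_genericFibre (𝟙 S) q (pullback.snd (𝟙 S) (Neron.genPt R) ≫ x)
      (by rw [Category.assoc, hx, ← pullback.condition])
  haveI : IsLocallyNoetherian S := LocallyOfFiniteType.isLocallyNoetherian (𝟙 S)
  obtain ⟨U', hle, hU', f', hf', hff'⟩ :=
    NeronLib.exists_extension_codim_one (NeronLib.smoothRegular_spec R) (𝟙 S) q U hU f hf
  have htop : ∀ s : S, s ∈ U' := fun s => by
    obtain ⟨η, -, hη, hd⟩ := NeronLib.exists_codim_one_mem_fibre (𝟙 S) s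
      (NeronLib.isPrincipal_maximalIdeal_stalk_spec R _) ⊤ trivial
    obtain rfl : η = s := hη
    exact hU' η hd
  obtain rfl : U' = ⊤ := Opens.ext (Set.eq_univ_of_forall htop)
  haveI : IsIso (⊤ : S.Opens).ι := ⟨⟨S.topIso.inv, S.topIso.hom_inv_id, S.topIso.inv_hom_id⟩⟩
  refine ⟨inv (⊤ : S.Opens).ι ≫ f', by rw [Category.assoc, hf', IsIso.inv_hom_id_assoc], ?_⟩
  have h1 : pullback.fst (𝟙 S) (Neron.genPt R) ≫ inv (⊤ : S.Opens).ι ≫ f' =
      pullback.snd (𝟙 S) (Neron.genPt R) ≫ x := by
    rw [← hp', ← hpf, ← hff', ← S.homOfLE_ι hle]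
    simp only [Category.assoc, IsIso.hom_inv_id_assoc]
  have h2 := congrArg (fun t => pullback.lift (Neron.genPt R) (𝟙 _)
    (by rw [Category.comp_id, Category.id_comp]) ≫ t) h1
  rwa [pullback.lift_fst_assoc, pullback.lift_snd_assoc, Category.id_comp] at h2

/-- A surjective proper scheme over a Dedekind domain has points with values in a faithfully flat quasi-compact
Dedekind extension, a localisation of which is the generic fibre. -/
theorem exists_quasiSection {X : Scheme.{u}} (q : X ⟶ Spec (CommRingCat.of R)) [IsProper q] [Surjective q] :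
    ∃ (T TK : Scheme.{u}) (j : T ⟶ Spec (CommRingCat.of R)) (g : TK ⟶ T)
      (wK : TK ⟶ Spec (CommRingCat.of (FractionRing R))),
      IsAffineHom j ∧ Flat j ∧ Surjective j ∧ IsPullback g wK j (Neron.genPt R) ∧ (∃ x : T ⟶ X, x ≫ q = j) ∧
      ∀ {Y : Scheme.{u}} (q' : Y ⟶ Spec (CommRingCat.of R)) [IsProper q'] (y : TK ⟶ Y), y ≫ q' = g ≫ j →
        ∃ y' : T ⟶ Y, y' ≫ q' = j ∧ g ≫ y' = y := by
  let K := FractionRing R
  let XK := pullback q (Neron.genPt R)
  let qK : XK ⟶ Spec (CommRingCat.of K) := pullback.snd q (Neron.genPt R)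
  haveI : CompactSpace XK := QuasiCompact.compactSpace_of_compactSpace qK
  obtain ⟨x₀, -⟩ := qK.surjective (default : Spec (CommRingCat.of K))
  obtain ⟨z, -, hz⟩ := IsClosed.exists_closed_singleton (X := XK) isClosed_univ ⟨x₀, trivial⟩
  haveI : IsFinite (XK.fromSpecResidueField z ≫ qK) := by
    rw [isClosed_singleton_iff_isClosedImmersion] at hz
    rw [isFinite_iff_locallyOfFiniteType_of_jacobsonSpace]
    infer_instance
  let L := XK.residueField z
  let φ := Spec.preimage (XK.fromSpecResidueField z ≫ qK)
  have hφ : φ.hom.Finite := by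
    rw [← IsFinite.SpecMap_iff, Spec.map_preimage]; infer_instance
  letI : Algebra K L := φ.hom.toAlgebra
  haveI : FiniteDimensional K L := hφ
  letI : Algebra R L := ((algebraMap K L).comp (algebraMap R K)).toAlgebra
  haveI : IsScalarTower R K L := IsScalarTower.of_algebraMap_eq fun _ => rfl
  let R' := integralClosure R L
  haveI : Ring.KrullDimLE 1 R := Ring.krullDimLE_one_iff_of_noZeroDivisors.2 fun I hI hp => hp.isMaximal hI
  haveI : IsNoetherianRing R' := CAlgMisc2.isNoetherianRing_of_between (R := R) K L R' Subtype.val_injective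
  haveI : IsFractionRing R' L := integralClosure.isFractionRing_of_finite_extension K L
  haveI : IsIntegrallyClosed R' := integralClosure.isIntegrallyClosedOfFiniteExtension K
  haveI : IsDedekindDomain R' := { }
  have hinjL : Function.Injective (algebraMap R L) := (algebraMap K L).injective.comp (IsFractionRing.injective R K)
  haveI : FaithfulSMul R R' := (faithfulSMul_iff_algebraMap_injective R R').2 fun a b h =>
    hinjL (congrArg Subtype.val h)
  haveI : Module.Flat R R' := inferInstance
  haveI : IsLocalization (Algebra.algebraMapSubmonoid R' (nonZeroDivisors R)) L :=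
    IsIntegralClosure.isLocalization R K L R'
  haveI : Algebra.IsPushout R R' K L := Algebra.isPushout_of_isLocalization (nonZeroDivisors R) K R' L
  let j : Spec (CommRingCat.of R') ⟶ Spec (CommRingCat.of R) := Spec.map (CommRingCat.ofHom (algebraMap R R'))
  let g : Spec (CommRingCat.of L) ⟶ Spec (CommRingCat.of R') := Spec.map (CommRingCat.ofHom (algebraMap R' L))
  let wK : Spec (CommRingCat.of L) ⟶ Spec (CommRingCat.of K) := Spec.map (CommRingCat.ofHom (algebraMap K L))
  have hpb : IsPullback g wK j (Neron.genPt R) := isPullback_SpecMap_of_isPushout _ _ _ _ (CommRingCat.isPushout_of_isPushout R R' K L)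
  have hext : ∀ {Y : Scheme.{u}} (q' : Y ⟶ Spec (CommRingCat.of R)) [IsProper q'] (y : Spec (CommRingCat.of L) ⟶ Y),
      y ≫ q' = g ≫ j → ∃ y' : Spec (CommRingCat.of R') ⟶ Y, y' ≫ q' = j ∧ g ≫ y' = y := by
    intro Y q' _ y hy
    let e := (FractionRing.algEquiv R' L).toRingEquiv.toCommRingCatIso
    have he : Spec.map e.hom ≫ Neron.genPt R' = g := by
      rw [← Spec.map_comp]
      congr 1
      ext r
      exact (FractionRing.algEquiv R' L).commutes r
    let y₁ : Spec (CommRingCat.of (FractionRing R')) ⟶ pullback q' j :=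
      pullback.lift (Spec.map e.inv ≫ y) (Neron.genPt R') (by
        rw [Category.assoc, hy, ← he, Category.assoc, ← Category.assoc (Spec.map e.inv), ← Spec.map_comp, Iso.hom_inv_id,
          Spec.map_id, Category.id_comp])
    obtain ⟨s, hs, hs'⟩ := exists_point_extend (pullback.snd q' j) y₁ (pullback.lift_snd _ _ _)
    refine ⟨s ≫ pullback.fst q' j, ?_, ?_⟩
    · rw [Category.assoc, pullback.condition, reassoc_of% hs]
    · rw [← he, Category.assoc, reassoc_of% hs', pullback.lift_fst, ← Category.assoc, ← Spec.map_comp,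
        Iso.inv_hom_id, Spec.map_id, Category.id_comp]
  obtain ⟨x, hx, -⟩ := hext q (XK.fromSpecResidueField z ≫ pullback.fst q (Neron.genPt R)) (by
    rw [Category.assoc, pullback.condition, hpb.w]
    show _ = Spec.map φ ≫ _
    rw [Spec.map_preimage, Category.assoc])
  exact ⟨_, _, j, g, wK, inferInstance, (HasRingHomProperty.Spec_iff (P := @Flat)).2 ‹Module.Flat R R'›,
    ⟨fun p => Algebra.IsIntegral.comap_surjective R R' p⟩, hpb, ⟨x, hx⟩, hext⟩

end Groth.Agent.TorsorDed
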