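import Groth.Prelude.Def_ActBC
import Groth.Agent.TorsorDed.Points
import Groth.Agent.NonAb.SchTorsor
import Groth.Agent.NonAb.NormalBase
import Groth.Agent.NeronLib.TorsorProp
import Groth.Agent.AlgSpLib.FppfLocal
import Mathlib.AlgebraicGeometry.Sites.Fpqc

/-!
# Torsors under proper flat group schemes over Dedekind domains

`hasSection_of_genPt`, `equivIso_of_genPt`: rational points and equivariant isomorphisms over the generic point extend.
-/

set_option autoImplicit false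
set_option backward.isDefEq.respectTransparency.types false
set_option linter.style.haveILetI false

universe u

open CategoryTheory Limits MonoidalCategory CartesianMonoidalCategory MonObj GrpObj AlgebraicGeometry

namespace Groth.Agent.TorsorDed

open NonAbLib

variable {S S' : Scheme.{u}} (f : S' ⟶ S) {G X X' : Over S} [GrpObj G]

/-- A point over `S'` as a point of the base change. -/
noncomputable def tr {W : Over S} (w : W.left ⟶ S') (hw : w ≫ f = W.hom) (p : W ⟶ X) :
    Over.mk w ⟶ (Over.pullback f).obj X :=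
  Over.homMk (pullback.lift p.left w (by rw [Over.w p, hw])) (pullback.lift_snd _ _ _)

theorem tr_fst {W : Over S} (w : W.left ⟶ S') (hw : w ≫ f = W.hom) (p : W ⟶ X) :
    (tr f w hw p).left ≫ pullback.fst X.hom f = p.left :=
  pullback.lift_fst _ _ _

theorem map_fst (h : X ⟶ X') :
    ((Over.pullback f).map h).left ≫ pullback.fst X'.hom f = pullback.fst X.hom f ≫ h.left :=
  pullback.lift_fst _ _ _

theorem tr_ext {W : Over S} {w : W.left ⟶ S'} {q q' : Over.mk w ⟶ (Over.pullback f).obj X}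
    (h : q.left ≫ pullback.fst X.hom f = q'.left ≫ pullback.fst X.hom f) : q = q' := by
  ext1
  exact pullback.hom_ext h ((Over.w q).trans (Over.w q').symm)

theorem tr_map {W : Over S} (w : W.left ⟶ S') (hw : w ≫ f = W.hom) (p : W ⟶ X) (h : X ⟶ X') :
    tr f w hw p ≫ (Over.pullback f).map h = tr f w hw (p ≫ h) := by
  refine tr_ext f ?_
  rw [Over.comp_left, Category.assoc, map_fst, ← Category.assoc, tr_fst, tr_fst, Over.comp_left]

theorem lift_tr {W : Over S} (w : W.left ⟶ S') (hw : w ≫ f = W.hom) (p : W ⟶ X) (p' : W ⟶ X') :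
    lift (tr f w hw p) (tr f w hw p') ≫ Functor.LaxMonoidal.μ (Over.pullback f) X X' = tr f w hw (lift p p') := by
  have h : lift (tr f w hw p) (tr f w hw p') =
      tr f w hw (lift p p') ≫ Functor.OplaxMonoidal.δ (Over.pullback f) X X' := by
    refine CartesianMonoidalCategory.hom_ext _ _ ?_ ?_
    · rw [lift_fst, Category.assoc, Functor.OplaxMonoidal.δ_fst, tr_map, lift_fst]
    · rw [lift_snd, Category.assoc, Functor.OplaxMonoidal.δ_snd, tr_map, lift_snd]
  rw [h, Category.assoc, Functor.Monoidal.δ_μ, Category.comp_id]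

theorem tr_actPt (a : AlgGrp.Action G X) {W : Over S} (w : W.left ⟶ S') (hw : w ≫ f = W.hom) (g : W ⟶ G)
    (p : W ⟶ X) : tr f w hw (actPt a g p) = lift (tr f w hw g) (tr f w hw p) ≫ (a.bc f).act := by
  rw [AlgGrp.Action.bc_act, ← Category.assoc, lift_tr, tr_map]
  rfl

variable {f} in
/-- Transport a point along a morphism of base changes. -/
noncomputable def push (φ : (Over.pullback f).obj X ⟶ (Over.pullback f).obj X') {W : Over S} (w : W.left ⟶ S')
    (hw : w ≫ f = W.hom) (p : W ⟶ X) : W ⟶ X' :=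
  Over.homMk ((tr f w hw p ≫ φ).left ≫ pullback.fst X'.hom f) (by
    rw [Category.assoc, pullback.condition, ← Category.assoc]
    exact (congrArg (· ≫ f) (Over.w (tr f w hw p ≫ φ))).trans hw)

theorem tr_push (φ : (Over.pullback f).obj X ⟶ (Over.pullback f).obj X') {W : Over S} (w : W.left ⟶ S')
    (hw : w ≫ f = W.hom) (p : W ⟶ X) : tr f w hw (push φ w hw p) = tr f w hw p ≫ φ := by
  refine tr_ext f ?_
  rw [tr_fst]
  rfl

theorem push_actPt {a : AlgGrp.Action G X} {a' : AlgGrp.Action G X'}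
    (φ : NonAbH1.EquivIso (a.bc f) (a'.bc f)) {W : Over S} (w : W.left ⟶ S') (hw : w ≫ f = W.hom) (g : W ⟶ G)
    (p : W ⟶ X) : push φ.iso.hom w hw (actPt a g p) = actPt a' g (push φ.iso.hom w hw p) := by
  have h : tr f w hw (push φ.iso.hom w hw (actPt a g p)) = tr f w hw (actPt a' g (push φ.iso.hom w hw p)) := by
    rw [tr_push, tr_actPt, tr_actPt, tr_push, Category.assoc, φ.comm, lift_whiskerLeft_assoc]
  ext1
  have := congrArg (fun t => t.left ≫ pullback.fst X'.hom f) h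
  exact (tr_fst f w hw _).symm.trans (this.trans (tr_fst f w hw _))

theorem push_comp (φ : (Over.pullback f).obj X ⟶ (Over.pullback f).obj X') {W V : Over S} (w : W.left ⟶ S')
    (hw : w ≫ f = W.hom) (v : V.left ⟶ S') (hv : v ≫ f = V.hom) (h : W ⟶ V) (hh : h.left ≫ v = w) (p : V ⟶ X) :
    push φ w hw (h ≫ p) = h ≫ push φ v hv p := by
  have e : tr f w hw (h ≫ p) = (Over.homMk h.left hh : Over.mk w ⟶ Over.mk v) ≫ tr f v hv p := by
    refine tr_ext f ?_
    rw [tr_fst, Over.comp_left, Over.comp_left, Category.assoc, tr_fst]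
    rfl
  ext1
  simp only [push, e, Over.comp_left, Over.homMk_left, Category.assoc]

instance flat_tensor (X Y : Over S) [Flat X.hom] [Flat Y.hom] : Flat (X ⊗ Y).hom :=
  MorphismProperty.comp_mem @Flat (pullback.fst X.hom Y.hom) X.hom
    (MorphismProperty.pullback_fst _ _ ‹Flat Y.hom›) ‹_›

variable {R : Type u} [CommRing R] [IsDedekindDomain R] {G : Over (Spec (CommRingCat.of R))} [GrpObj G]
  [IsProper G.hom]

/-- A generically trivial torsor is trivial. -/
theorem hasSection_of_genPt (P : NonAbH1.TorsorSch G Scheme.fppfPrecoverage)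
    (h : NonAbH1.HasSectionOver P.X (Neron.genPt R)) :
    NonAbH1.HasSectionOver P.X (𝟙 (Spec (CommRingCat.of R))) := by
  haveI : IsProper P.X.hom := NeronLib.Formal.prop_of_torsor P.isTorsor @IsProper ‹_›
  obtain ⟨x, hx⟩ := h
  obtain ⟨s, hs, -⟩ := exists_point_extend P.X.hom x hx
  exact ⟨s, hs⟩

/-- Equivariant isomorphisms of the generic fibres extend. -/
theorem equivIso_of_genPt [Flat G.hom] (P P' : NonAbH1.TorsorSch G Scheme.fppfPrecoverage)
    (φ : NonAbH1.EquivIso (P.act.bc (Neron.genPt R)) (P'.act.bc (Neron.genPt R))) :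
    Nonempty (NonAbH1.EquivIso P.act P'.act) := by
  haveI : IsProper P.X.hom := NeronLib.Formal.prop_of_torsor P.isTorsor @IsProper ‹_›
  haveI : IsProper P'.X.hom := NeronLib.Formal.prop_of_torsor P'.isTorsor @IsProper ‹_›
  haveI : Flat P.X.hom := NeronLib.Formal.prop_of_torsor P.isTorsor @Flat ‹_›
  haveI : Surjective P.X.hom := surjective_hom P.act (fppf_isTorsorFor_fpqc P.isTorsor)
  obtain ⟨T₀, TK₀, j, g, wK, hja, hjf, hjs, hpb, ⟨x₀, hx₀⟩, hext⟩ := exists_quasiSection P.X.hom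
  let T : Over (Spec (CommRingCat.of R)) := Over.mk j
  haveI : Flat T.hom := hjf
  let TK : Over (Spec (CommRingCat.of R)) := Over.mk (g ≫ j)
  let gT : TK ⟶ T := Over.homMk g rfl
  let x : T ⟶ P.X := Over.homMk x₀ hx₀
  have hwK : wK ≫ Neron.genPt R = TK.hom := hpb.w.symm
  let yK : TK ⟶ P'.X := push φ.iso.hom (W := TK) wK hwK (gT ≫ x)
  obtain ⟨y₀, hy₀, hy₀'⟩ := hext P'.X.hom yK.left (Over.w yK)
  let x' : T ⟶ P'.X := Over.homMk y₀ hy₀
  have hgx' : gT ≫ x' = yK := by ext1; exact hy₀'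
  have hps := P.isTorsor.1
  have hps' := P'.isTorsor.1
  haveI := isIso_trivMap hps x
  haveI := isIso_trivMap hps' x'
  let ψ₀ : P.X ⊗ T ⟶ P'.X := inv (trivMap P.act x) ≫ trivMap P'.act x' ≫ fst P'.X T
  have hψ₀ : ∀ {W : Over (Spec (CommRingCat.of R))} (d : W ⟶ G) (t : W ⟶ T),
      lift (actPt P.act d (t ≫ x)) t ≫ ψ₀ = actPt P'.act d (t ≫ x') := fun d t => by
    have e1 : lift (actPt P.act d (t ≫ x)) t = lift d t ≫ trivMap P.act x := by
      simp [trivMap]
    have e2 : lift d t ≫ trivMap P'.act x' ≫ fst P'.X T = actPt P'.act d (t ≫ x') := by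
      simp [trivMap]
    rw [e1, Category.assoc, IsIso.hom_inv_id_assoc, e2]
  -- on the generic fibre the transported map is `φ`
  have hgen : ∀ (W : Over (Spec (CommRingCat.of R))) (w : W.left ⟶ Spec (CommRingCat.of (FractionRing R)))
      (hw : w ≫ Neron.genPt R = W.hom) (p : W ⟶ P.X) (t : W ⟶ T),
      lift p t ≫ ψ₀ = push φ.iso.hom w hw p := by
    intro W w hw p t
    obtain ⟨d, hd, -⟩ := existsUnique_actPt hps (t ≫ x) p
    let l : W ⟶ TK := Over.homMk (hpb.lift t.left w ((Over.w t).trans hw.symm))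
      ((hpb.lift_fst_assoc _ _ _ j).trans (Over.w t))
    have hl : l ≫ gT = t := by ext1; exact hpb.lift_fst _ _ _
    have hlw : l.left ≫ wK = w := hpb.lift_snd _ _ _
    conv_lhs => rw [← hd]
    rw [hψ₀, ← hd, push_actPt, ← hl, Category.assoc, Category.assoc,
      push_comp (Neron.genPt R) φ.iso.hom w hw wK hwK l hlw, hgx']
  -- the two pull-backs agree
  have hinv : (P.X ◁ fst T T) ≫ ψ₀ = (P.X ◁ snd T T) ≫ ψ₀ := by
    ext1
    refine NeronLib.eq_of_fst_genPt (P.X ⊗ (T ⊗ T)).hom P'.X.hom _ _ ?_ ?_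
    · rw [Over.w, Over.w]
    let W : Over (Spec (CommRingCat.of R)) :=
      Over.mk (pullback.fst (P.X ⊗ (T ⊗ T)).hom (Neron.genPt R) ≫ (P.X ⊗ (T ⊗ T)).hom)
    let i : W ⟶ P.X ⊗ (T ⊗ T) := Over.homMk (pullback.fst _ _) rfl
    have hw : pullback.snd (P.X ⊗ (T ⊗ T)).hom (Neron.genPt R) ≫ Neron.genPt R = W.hom := pullback.condition.symm
    have key : ∀ k : T ⊗ T ⟶ T, i ≫ (P.X ◁ k) ≫ ψ₀ = push φ.iso.hom (W := W) (pullback.snd _ _) hw (i ≫ fst _ _) :=
      fun k => by
        rw [← hgen W _ hw (i ≫ fst _ _) (i ≫ snd _ _ ≫ k), ← Category.assoc]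
        congr 1
        refine CartesianMonoidalCategory.hom_ext _ _ ?_ ?_ <;> simp
    exact congrArg CommaMorphism.left ((key (fst T T)).trans (key (snd T T)).symm)
  -- descent
  let c : (P.X ⊗ T).left ⟶ P.X.left := (fst P.X T).left
  haveI : QuasiCompact j := inferInstance
  haveI : QuasiCompact c := MorphismProperty.pullback_fst (P := @QuasiCompact) _ _ ‹_›
  haveI : Flat c := MorphismProperty.pullback_fst (P := @Flat) _ _ hjf
  haveI : Surjective c := MorphismProperty.pullback_fst (P := @Surjective) _ _ hjs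
  have hdesc : ∀ {Z : Scheme.{u}} (g₁ g₂ : Z ⟶ (P.X ⊗ T).left), g₁ ≫ c = g₂ ≫ c → g₁ ≫ ψ₀.left = g₂ ≫ ψ₀.left := by
    intro Z g₁ g₂ hg
    let W : Over (Spec (CommRingCat.of R)) := Over.mk (g₁ ≫ (P.X ⊗ T).hom)
    let a₁ : W ⟶ P.X ⊗ T := Over.homMk g₁ rfl
    let a₂ : W ⟶ P.X ⊗ T := Over.homMk g₂ (by
      show g₂ ≫ (P.X ⊗ T).hom = g₁ ≫ (P.X ⊗ T).hom
      rw [← Over.w (fst P.X T), ← Category.assoc, ← Category.assoc, hg])
    have h12 : a₁ ≫ fst P.X T = a₂ ≫ fst P.X T := by ext1; exact hg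
    let a : W ⟶ P.X ⊗ (T ⊗ T) := lift (a₁ ≫ fst _ _) (lift (a₁ ≫ snd _ _) (a₂ ≫ snd _ _))
    have e₁ : a ≫ (P.X ◁ fst T T) = a₁ := by
      refine CartesianMonoidalCategory.hom_ext _ _ ?_ ?_ <;> simp [a]
    have e₂ : a ≫ (P.X ◁ snd T T) = a₂ := by
      refine CartesianMonoidalCategory.hom_ext _ _ ?_ ?_
      · simpa [a] using h12
      · simp [a]
    have : a₁ ≫ ψ₀ = a₂ ≫ ψ₀ := by rw [← e₁, ← e₂, Category.assoc, Category.assoc, hinv]
    exact congrArg CommaMorphism.left this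
  let ψl := EffectiveEpi.desc c ψ₀.left hdesc
  have hψl : c ≫ ψl = ψ₀.left := EffectiveEpi.fac c _ hdesc
  let ψ : P.X ⟶ P'.X := Over.homMk ψl (by
    rw [← cancel_epi c, ← Category.assoc, hψl, Over.w]
    exact (Over.w (fst P.X T)).symm)
  have hψ : fst P.X T ≫ ψ = ψ₀ := by ext1; exact hψl
  have hequiv : P.act.act ≫ ψ = (G ◁ ψ) ≫ P'.act.act := by
    let W := (G ⊗ P.X) ⊗ T
    let g' : W ⟶ G := fst _ _ ≫ fst _ _
    let p : W ⟶ P.X := fst _ _ ≫ snd _ _
    let t : W ⟶ T := snd _ _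
    obtain ⟨d, hd, -⟩ := existsUnique_actPt hps (t ≫ x) p
    haveI : QuasiCompact (fst (G ⊗ P.X) T).left := MorphismProperty.pullback_fst (P := @QuasiCompact) _ _ ‹QuasiCompact j›
    haveI : Flat (fst (G ⊗ P.X) T).left := MorphismProperty.pullback_fst (P := @Flat) _ _ hjf
    haveI : Surjective (fst (G ⊗ P.X) T).left := MorphismProperty.pullback_fst (P := @Surjective) _ _ hjs
    ext1
    rw [← cancel_epi (fst (G ⊗ P.X) T).left, ← Over.comp_left, ← Over.comp_left]
    refine congrArg CommaMorphism.left ?_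
    have hp : ∀ (q : W ⟶ P.X), q ≫ ψ = lift q t ≫ ψ₀ := fun q => by
      rw [← hψ, lift_fst_assoc]
    have e1 : fst (G ⊗ P.X) T ≫ P.act.act = actPt P.act g' p := by
      rw [actPt, ← comp_lift, lift_fst_snd, Category.comp_id]
    have e2 : fst (G ⊗ P.X) T ≫ (G ◁ ψ) ≫ P'.act.act = actPt P'.act g' (p ≫ ψ) := by
      rw [actPt, ← Category.assoc]
      congr 1
      refine CartesianMonoidalCategory.hom_ext _ _ ?_ ?_ <;> simp [g', p]
    rw [← Category.assoc, e1, e2, hp, hp, ← hd, ← actPt_mul, hψ₀, hψ₀, actPt_mul]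
  haveI := isIso_of_equivariant (fppf_isTorsorFor_fpqc P.isTorsor) hps' ψ hequiv
  exact ⟨⟨asIso ψ, hequiv⟩⟩

end Groth.Agent.TorsorDed
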